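import Mathlib
import Cfsg.Agent.Cop.MinAct
import Cfsg.Agent.Extra.Basic
import Cfsg.Agent.Solv.Core
import Cfsg.Agent.Solv.MinNormal

set_option autoImplicit false

/-!
Coprime actions on `p`-groups centralizing the elements of order `p` (or 4), and nilpotency from
commuting elements of coprime prime power orders.
-/

namespace Cfsg.Agent.H63

open Subgroup Cfsg
open scoped commutatorElement

variable {X : Type*} [Group X] [Finite X]

/-- A `p'`-group centralizing every element of order `p` (and 4 if `p = 2`) of a `p`-group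
centralizes it. -/
theorem le_centralizer_of_omega {p : ℕ} [hp : Fact p.Prime] (A P : Subgroup X) (hP : IsPGroup p P)
    (hAP : A ≤ normalizer (P : Set X)) (hA : (Nat.card A).Coprime p)
    (h : ∀ x ∈ P, x ^ p = 1 → x ∈ centralizer (A : Set X))
    (h4 : p = 2 → ∀ x ∈ P, x ^ 4 = 1 → x ∈ centralizer (A : Set X)) : A ≤ centralizer (P : Set X) := by
  rw [le_centralizer_iff, ← commutator_eq_bot_iff_le_centralizer]
  by_contra hnt
  obtain ⟨Q, hQP, hAQ, hQ, hmin⟩ := Cop.exists_min (A := A) (B := A) hAP hnt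
  have hQp : IsPGroup p Q := hP.to_le hQP
  apply hQ
  rw [commutator_eq_bot_iff_le_centralizer]
  by_cases hp2 : p = 2
  · intro x hx
    apply h4 hp2 x (hQP hx)
    rcases Cop.min_structure hQp hAQ le_rfl le_normalizer hA hQ hmin with ⟨h3, _⟩ | ⟨h3, _, _⟩
    · have := h3.2 x hx
      rw [hp2] at this
      rw [show (4 : ℕ) = 2 * 2 by norm_num, pow_mul, this, one_pow]
    · have h5 := Extra.pow_mem_center_of_isSpecial h3 ⟨x, hx⟩
      have h6 := Extra.center_pow_eq_one_of_isSpecial h3 _ h5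
      have h7 := congrArg Subtype.val h6
      rw [hp2] at h7
      rw [show (4 : ℕ) = 2 * 2 by norm_num, pow_mul]
      exact h7
  · intro x hx
    exact h x (hQP hx) (Cop.min_exponent hQp hAQ le_rfl le_normalizer hA hQ hmin hp2 x hx)

/-- A finite group in which elements of coprime prime power orders commute is nilpotent. -/
theorem isNilpotent_of_commute {G : Type*} [Group G] [Finite G]
    (h : ∀ p q : ℕ, p.Prime → q.Prime → p ≠ q → ∀ x y : G, (∃ a, x ^ p ^ a = 1) → (∃ b, y ^ q ^ b = 1) →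
      x * y = y * x) : Group.IsNilpotent G := by
  have q := (Group.isNilpotent_of_finite_tfae (G := G)).out 0 3
  rw [q]; clear q
  intro p hp P
  rw [← normalizer_eq_top_iff, eq_top_iff]
  have P' : ∀ q : Nat.Primes, Sylow (q : ℕ) G := fun q => Classical.arbitrary _
  rw [← Solv.iSup_sylow_eq_top (fun q : Nat.Primes => if hq : (q : ℕ) = p then (hq ▸ P : Sylow (q : ℕ) G) else P' q)]
  apply iSup_le
  intro q
  by_cases hq : (q : ℕ) = p
  · obtain ⟨q, hq'⟩ := q
    dsimp only at hq
    subst hq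
    rw [dif_pos rfl]
    exact le_normalizer
  · rw [dif_neg hq]
    refine le_trans ?_ (centralizer_le_normalizer _)
    intro y hy
    rw [mem_centralizer_iff]
    intro x hx
    obtain ⟨a, ha⟩ := P.isPGroup' ⟨x, hx⟩
    obtain ⟨b, hb⟩ := (P' q).isPGroup' ⟨y, hy⟩
    exact h p q hp.out q.2 (Ne.symm hq) x y ⟨a, congrArg Subtype.val ha⟩ ⟨b, congrArg Subtype.val hb⟩

/-- Elements of `p`-power order of the Fitting subgroup lie in `O_p`. -/
theorem mem_pCore_of_mem_fitting {G : Type*} [Group G] [Finite G] {p : ℕ} [hp : Fact p.Prime] {x : G}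
    (hx : x ∈ fittingSubgroup G) (hxp : ∃ a, x ^ p ^ a ∈ pCore p G) : x ∈ pCore p G := by
  obtain ⟨a, ha⟩ := hxp
  have h1 := Solv.coprime_relIndex_pCore_iSup (G := G) p
  rw [← Solv.fitting_eq_iSup_pCore] at h1
  -- the image of x in F / O_p
  set F := fittingSubgroup G
  have h2 : ((⟨x, hx⟩ : F) : F ⧸ (pCore p G).subgroupOf F) ^ p ^ a = 1 := by
    rw [← QuotientGroup.mk_pow, QuotientGroup.eq_one_iff]
    exact ha
  have h3 : ((⟨x, hx⟩ : F) : F ⧸ (pCore p G).subgroupOf F) ^ ((pCore p G).relIndex F) = 1 := by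
    rw [relIndex, index_eq_card]
    exact pow_card_eq_one'
  have h4 : ((⟨x, hx⟩ : F) : F ⧸ (pCore p G).subgroupOf F) = 1 := by
    have h5 : orderOf ((⟨x, hx⟩ : F) : F ⧸ (pCore p G).subgroupOf F) ∣ 1 := by
      have := Nat.dvd_gcd (orderOf_dvd_of_pow_eq_one h2) (orderOf_dvd_of_pow_eq_one h3)
      rwa [(Nat.Coprime.pow_right a h1).symm.gcd_eq_one] at this
    rw [Nat.dvd_one] at h5
    exact orderOf_eq_one_iff.1 h5
  rw [QuotientGroup.eq_one_iff] at h4
  exact h4

end Cfsg.Agent.H63
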