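import Mathlib
import Cfsg.Agent.H63.PG

set_option autoImplicit false

/-!
Subgroups of prime index; counting subgroups of order `p` in a group of order `p ^ 2`.
-/

namespace Cfsg.Agent.H63

open Subgroup

variable {G : Type*} [Group G]

theorem isCoatom_of_index_prime {p : ℕ} (hp : p.Prime) {A : Subgroup G} (hA : A.index = p) : IsCoatom A := by
  constructor
  · rintro rfl
    rw [Subgroup.index_top] at hA
    exact hp.one_lt.ne hA
  · intro B hAB
    have h1 := Subgroup.relIndex_mul_index hAB.le
    rw [hA] at h1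
    rcases (Nat.dvd_prime hp).1 (Dvd.intro_left _ h1) with h2 | h2
    · exact Subgroup.index_eq_one.1 h2
    · exfalso
      rw [h2] at h1
      have h3 : A.relIndex B = 1 := Nat.eq_of_mul_eq_mul_right hp.pos (by rw [h1, one_mul])
      exact absurd (Subgroup.relIndex_eq_one.1 h3) (not_le_of_gt hAB)

theorem sup_zpowers_eq_top {p : ℕ} (hp : p.Prime) {A : Subgroup G} (hA : A.index = p) {x : G} (hx : x ∉ A) :
    A ⊔ Subgroup.zpowers x = ⊤ := by
  apply (isCoatom_of_index_prime hp hA).2
  refine lt_of_le_of_ne le_sup_left ?_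
  intro h
  apply hx
  rw [h]
  exact (le_sup_right : Subgroup.zpowers x ≤ A ⊔ Subgroup.zpowers x) (Subgroup.mem_zpowers x)

/-- an element commuting with `A` and lying outside `A`, with `A` abelian and `A ⊔ ⟨x⟩ = ⊤`, forces `G` abelian -/
theorem comm_of_sup_zpowers {A : Subgroup G} (hA : IsMulCommutative A) {x : G}
    (htop : A ⊔ Subgroup.zpowers x = ⊤) (hx : ∀ a ∈ A, x * a = a * x) : IsMulCommutative G := by
  have hAc : A ≤ Subgroup.centralizer (A : Set G) := Subgroup.le_centralizer_iff_isMulCommutative.2 hA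
  have hxc : x ∈ Subgroup.centralizer (A : Set G) := by
    rw [Subgroup.mem_centralizer_iff]
    intro a ha
    exact (hx a ha).symm
  have h1 : Subgroup.centralizer (A : Set G) = ⊤ := by
    rw [eq_top_iff, ← htop]
    exact sup_le hAc (Subgroup.zpowers_le.2 hxc)
  have h2 : A ≤ Subgroup.center G := by
    rw [Subgroup.centralizer_eq_top_iff_subset] at h1
    exact h1
  have h3 : x ∈ Subgroup.center G := by
    rw [← Subgroup.centralizer_univ, Subgroup.mem_centralizer_iff]
    intro g _
    have hg : g ∈ A ⊔ Subgroup.zpowers x := htop ▸ Subgroup.mem_top g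
    have h4 : A ⊔ Subgroup.zpowers x ≤ Subgroup.centralizer ({x} : Set G) := by
      apply sup_le
      · intro a ha
        rw [Subgroup.mem_centralizer_singleton_iff]
        exact (hx a ha).symm
      · rw [Subgroup.zpowers_le, Subgroup.mem_centralizer_singleton_iff]
    exact Subgroup.mem_centralizer_singleton_iff.1 (h4 hg)
  have h5 : Subgroup.center G = ⊤ := by
    rw [eq_top_iff, ← htop]
    exact sup_le h2 (Subgroup.zpowers_le.2 h3)
  refine ⟨⟨fun a b => ?_⟩⟩
  have hb : b ∈ Subgroup.center G := h5 ▸ Subgroup.mem_top b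
  exact Subgroup.mem_center_iff.1 hb a

/-- In a group of order `p ^ 2` and exponent `p`, there are `p + 1` subgroups of order `p`. -/
theorem card_subgroups_of_card_sq [Finite G] {p : ℕ} (hp : p.Prime) (hG : Nat.card G = p ^ 2)
    (hexp : ∀ x : G, x ^ p = 1) : Nat.card {B : Subgroup G // Nat.card B = p} = p + 1 := by
  classical
  haveI := Fintype.ofFinite G
  haveI : Fintype (Subgroup G) := Fintype.ofFinite _
  set S : Finset G := Finset.univ.erase 1 with hS
  set T : Finset (Subgroup G) := Finset.univ.filter (fun B => Nat.card B = p) with hT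
  have horder : ∀ g ∈ S, Nat.card (Subgroup.zpowers g) = p := by
    intro g hg
    rw [Nat.card_zpowers]
    haveI := Fact.mk hp
    exact orderOf_eq_prime (hexp g) (Finset.ne_of_mem_erase hg)
  have hmaps : ∀ g ∈ S, Subgroup.zpowers g ∈ T := by
    intro g hg
    rw [hT, Finset.mem_filter]
    exact ⟨Finset.mem_univ _, horder g hg⟩
  have hsum := Finset.card_eq_sum_card_fiberwise hmaps
  have hconst : ∀ B ∈ T, (S.filter (fun g => Subgroup.zpowers g = B)).card = p - 1 := by
    intro B hB
    have hB' := (Finset.mem_filter.1 hB).2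
    have h1 : S.filter (fun g => Subgroup.zpowers g = B) =
        (Finset.univ.filter (fun g : G => g ∈ B)).erase 1 := by
      ext g
      simp only [Finset.mem_filter, Finset.mem_erase, Finset.mem_univ, true_and, hS, and_true]
      constructor
      · rintro ⟨h2, h3⟩
        exact ⟨h2, h3 ▸ Subgroup.mem_zpowers g⟩
      · rintro ⟨h2, h3⟩
        refine ⟨h2, ?_⟩
        apply Subgroup.eq_of_le_of_card_ge (Subgroup.zpowers_le.2 h3)
        rw [hB', horder g (Finset.mem_erase.2 ⟨h2, Finset.mem_univ _⟩)]
    rw [h1, Finset.card_erase_of_mem (by simp [B.one_mem])]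
    congr 1
    rw [← hB', Nat.card_eq_fintype_card, Fintype.card_subtype]
  rw [Finset.sum_congr rfl hconst, Finset.sum_const, smul_eq_mul, hS,
    Finset.card_erase_of_mem (Finset.mem_univ _), Finset.card_univ, ← Nat.card_eq_fintype_card, hG] at hsum
  have hTc : Nat.card {B : Subgroup G // Nat.card B = p} = T.card := by
    rw [Nat.card_eq_fintype_card, Fintype.card_subtype]
  rw [hTc]
  have h2 : p ^ 2 - 1 = (p + 1) * (p - 1) := by
    have := Nat.sq_sub_sq p 1
    simpa using this
  rw [h2] at hsum
  have h3 : 0 < p - 1 := Nat.sub_pos_of_lt hp.one_lt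
  exact (Nat.eq_of_mul_eq_mul_right h3 hsum).symm

end Cfsg.Agent.H63
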