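import Mathlib
import Cfsg.Agent.H63.PG
import Cfsg.Agent.H63.IndexP
import Cfsg.Agent.Extra.More
import Cfsg.Agent.H23.PGroupNormal

set_option autoImplicit false

/-!
Centralizers of normal subgroups of order `p²` of a `p`-group.
-/

namespace Cfsg.Agent.H63

open Subgroup
open scoped commutatorElement

variable {G : Type*} [Group G]

/-- The centralizer of a normal subgroup of order `p²` of a `p`-group has index at most `p`. -/
theorem index_centralizer_le_of_card_sq [Finite G] {p : ℕ} [hp : Fact p.Prime] (hG : IsPGroup p G)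
    (A : Subgroup G) [A.Normal] (hA : Nat.card A = p ^ 2) :
    (Subgroup.centralizer (A : Set G)).index ≤ p := by
  have hpp := hp.out
  have hA1 : A ≠ ⊥ := by
    rintro rfl
    rw [Subgroup.card_bot] at hA
    have := hpp.one_lt
    nlinarith
  obtain ⟨Z, hZn, hZA, hZc⟩ := H23.exists_normal_le_card_eq hG (N := A) inferInstance 1 (by
    rw [hA]; exact Nat.pow_le_pow_right hpp.pos (by norm_num))
  rw [pow_one] at hZc
  have hZ := le_center_of_card_eq_prime hG Z hZc
  -- commutators with A lie in Z
  have hcomm : ∀ g : G, ∀ a ∈ A, ⁅g, a⁆ ∈ Z := by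
    intro g a ha
    haveI : (A.map (QuotientGroup.mk' Z)).Normal :=
      Subgroup.Normal.map inferInstance _ (QuotientGroup.mk'_surjective Z)
    have hcard : Nat.card (A.map (QuotientGroup.mk' Z)) = p := by
      have h1 := Subgroup.card_mul_index (Subgroup.subgroupOf Z A)
      have h2 : Nat.card (Subgroup.subgroupOf Z A) = p := by
        rw [← hZc]
        exact Nat.card_congr (Subgroup.subgroupOfEquivOfLe hZA).toEquiv
      have h3 : (Subgroup.subgroupOf Z A).index = Nat.card (A.map (QuotientGroup.mk' Z)) := by
        have := Subgroup.relIndex_ker A (QuotientGroup.mk' Z)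
        rw [QuotientGroup.ker_mk'] at this
        exact this
      rw [h2, h3, hA] at h1
      exact Nat.eq_of_mul_eq_mul_left hpp.pos (by rw [h1, pow_two])
    have hle := le_center_of_card_eq_prime (hG.to_quotient Z) (A.map (QuotientGroup.mk' Z)) hcard
    have h4 : (QuotientGroup.mk' Z) a ∈ Subgroup.center (G ⧸ Z) := hle (Subgroup.mem_map_of_mem _ ha)
    have h5 := Subgroup.mem_center_iff.1 h4 (QuotientGroup.mk' Z g)
    rw [← QuotientGroup.ker_mk' Z, MonoidHom.mem_ker, map_commutatorElement,
      commutatorElement_eq_one_iff_mul_comm]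
    exact h5
  -- choose a in A outside Z
  have hne : ¬ A ≤ Z := by
    intro h
    have := Subgroup.card_le_of_le h
    rw [hA, hZc] at this
    have := hpp.one_lt
    nlinarith
  obtain ⟨a, ha, haZ⟩ := SetLike.not_le_iff_exists.1 hne
  have hcent : Subgroup.centralizer (A : Set G) = Subgroup.centralizer ({a} : Set G) := by
    apply le_antisymm
    · exact Subgroup.centralizer_le (by simpa using ha)
    · intro g hg
      rw [Subgroup.mem_centralizer_singleton_iff] at hg
      have hle : A ≤ Z ⊔ Subgroup.zpowers a := by
        have h1 : Z ⊔ Subgroup.zpowers a ≤ A := sup_le hZA (Subgroup.zpowers_le.2 ha)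
        have h2 : Nat.card ↥(Z ⊔ Subgroup.zpowers a) ∣ p ^ 2 := by
          rw [← hA]; exact Subgroup.card_dvd_of_le h1
        obtain ⟨k, hk, hk'⟩ := (Nat.dvd_prime_pow hpp).1 h2
        have h3 : p ∣ Nat.card ↥(Z ⊔ Subgroup.zpowers a) := by
          have := Subgroup.card_dvd_of_le (le_sup_left : Z ≤ Z ⊔ Subgroup.zpowers a)
          rwa [hZc] at this
        have h4 : Nat.card ↥(Z ⊔ Subgroup.zpowers a) ≠ p := by
          intro h
          have h5 : Z = Z ⊔ Subgroup.zpowers a :=
            Subgroup.eq_of_le_of_card_ge le_sup_left (by rw [h, hZc])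
          apply haZ
          rw [h5]
          exact (le_sup_right : Subgroup.zpowers a ≤ _) (Subgroup.mem_zpowers a)
        have h5 : k = 2 := by
          interval_cases k
          · rw [hk'] at h3
            exact absurd (Nat.dvd_one.1 (by simpa using h3)) hpp.one_lt.ne'
          · exact absurd (by simpa using hk') h4
          · rfl
        have h6 : Z ⊔ Subgroup.zpowers a = A :=
          Subgroup.eq_of_le_of_card_ge h1 (by rw [hk', h5, hA])
        exact h6.ge
      rw [Subgroup.mem_centralizer_iff]
      intro x hx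
      obtain ⟨z, hz, w, hw, rfl⟩ := (Subgroup.mem_sup_of_normal_left (s := Z) (t := Subgroup.zpowers a)).1 (hle hx)
      obtain ⟨n, rfl⟩ := Subgroup.mem_zpowers_iff.1 hw
      have h7 : Commute z g := (Subgroup.mem_center_iff.1 (hZ hz) g).symm
      have h8 : Commute a g := hg.symm
      exact (h7.mul_left (h8.zpow_left n)).eq
  rw [hcent]
  refine (Extra.index_centralizer_le_ncard a (Z : Set G) (fun g => hcomm g a ha)).trans ?_
  rw [← Nat.card_coe_set_eq]
  exact hZc.le

end Cfsg.Agent.H63
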